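import Cfsg.Agent.Layer.Intrinsic

/-!
# `p`-constraint of normalisers of `p`-subgroups
-/

set_option autoImplicit false
set_option linter.unusedSectionVars false

open Cfsg Subgroup

namespace Cfsg.Agent.PConstr

open Layer

variable {G : Type*} [Group G] {p : ℕ}

/-- If a `p`-constrained subgroup contains `T` and `C(T)`, then `N(T)` is `p`-constrained. -/
theorem isPConstrained_normalizer_of_le [Finite G] [hp : Fact p.Prime] {C : Subgroup G}
    (h : IsPConstrained p ↥C) {T : Subgroup G} (hT : IsPGroup p T) (hTC : T ≤ C)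
    (hCT : centralizer (T : Set G) ≤ C) : IsPConstrained p ↥(normalizer (T : Set G)) := by
  set N := normalizer (T : Set G) with hN
  rw [isPConstrained_iff_pLayer, pLayer, sSup_eq_bot]
  intro K hK
  by_contra hK1
  -- the component centralises `T`
  have hT' : IsPGroup p (T.subgroupOf N) := hT.comap_of_injective _ N.subtype_injective
  haveI hTn : (T.subgroupOf N).Normal := Subgroup.normal_in_normalizer (H := T)
  set f := QuotientGroup.mk' (pPrimeCore p ↥N) with hf
  have hbar : ⁅K.map f, (T.subgroupOf N).map f⁆ = ⊥ := by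
    refine component_commute_subnormal_solvable hK.2.1 (isSolvable_of_isPGroup (hT'.map f)) ?_
    exact (hTn.map f (QuotientGroup.mk'_surjective _)).isSubnormal
  rw [← map_commutator, Subgroup.map_eq_bot_iff, hf, QuotientGroup.ker_mk'] at hbar
  have hKT : ⁅K, T.subgroupOf N⁆ = ⊥ := by
    rw [eq_bot_iff, ← inf_eq_bot_of_isPGroup hT' (Core.coprime_card_pPrimeCore (p := p) (G := ↥N))]
    exact le_inf (commutator_le_right _ _) hbar
  have hKc : ∀ k : ↥N, k ∈ K → (k : G) ∈ centralizer (T : Set G) := fun k hk =>
    mem_centralizer_iff.2 fun t ht =>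
      congrArg Subtype.val (mem_centralizer_iff.1 (commutator_eq_bot_iff_le_centralizer.1 hKT hk)
        ⟨t, le_normalizer ht⟩ ht)
  -- pull it back into `N_C(T)`
  set M := normalizer ((T.subgroupOf C : Subgroup C) : Set C) with hM
  have hMN : ∀ m : ↥M, ((m : C) : G) ∈ N := fun m => by
    rw [hN, mem_normalizer_iff]
    intro t
    constructor
    · intro ht
      exact (mem_normalizer_iff.1 m.2 ⟨t, hTC ht⟩).1 ht
    · intro ht
      have htC : t ∈ C := by
        have := C.mul_mem (C.mul_mem (C.inv_mem (m : C).2) (hTC ht)) (m : C).2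
        simpa [mul_assoc] using this
      exact (mem_normalizer_iff.1 m.2 ⟨t, htC⟩).2 ht
  let φ : ↥M →* ↥N := MonoidHom.mk' (fun m => ⟨((m : C) : G), hMN m⟩) fun a b => rfl
  have hφ : Function.Injective φ := fun a b h =>
    Subtype.ext (Subtype.ext (congrArg Subtype.val h :))
  have hrange : K ≤ φ.range := fun k hk => by
    have hkC : (k : G) ∈ C := hCT (hKc k hk)
    have hkM : (⟨(k : G), hkC⟩ : C) ∈ M := by
      rw [hM, mem_normalizer_iff]
      exact fun t => mem_normalizer_iff.1 k.2 (t : G)
    exact ⟨⟨⟨(k : G), hkC⟩, hkM⟩, rfl⟩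
  have hmap : (K.comap φ).map φ = K := map_comap_eq_self hrange
  have hK' : IsPComponent p (K.comap φ) := by
    refine isPComponent_iff_intrinsic.2 ⟨hK.1.comap φ, ?_⟩
    refine isPCompGroup_congr ((MulEquiv.subgroupCongr hmap.symm).trans
      (equivMapOfInjective (K.comap φ) φ hφ).symm) (isPComponent_iff_intrinsic.1 hK).2
  have hbot : pLayer p ↥M = ⊥ := isPConstrained_iff_pLayer.1
    (isPConstrained_normalizer h (hT.comap_of_injective _ C.subtype_injective))
  have h0 : K.comap φ = ⊥ := le_bot_iff.1 (hbot ▸ pComponent_le_pLayer hK')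
  exact hK1 (by rw [← hmap, h0, Subgroup.map_bot])

/-- `p`-constrained with trivial `p'`-core is the same as self-central `p`-core. -/
theorem pCoreSelfCentral_iff [Finite G] [Fact p.Prime] :
    PCoreSelfCentral p G ↔ IsPConstrained p G ∧ pPrimeCore p G = ⊥ := by
  constructor
  · intro h
    have hO := pPrimeCore_eq_bot_of_selfCentral h
    refine ⟨isPConstrained_iff_selfCentral.2 (pCoreSelfCentral_congr ?_ h), hO⟩
    exact ((QuotientGroup.quotientMulEquivOfEq hO).trans QuotientGroup.quotientBot).symm
  · rintro ⟨h, hO⟩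
    exact pCoreSelfCentral_congr ((QuotientGroup.quotientMulEquivOfEq hO).trans QuotientGroup.quotientBot)
      (isPConstrained_iff_selfCentral.1 h)

end Cfsg.Agent.PConstr
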